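import Mathlib.AlgebraicGeometry.Restrict

/-! Restricting a morphism over an open of the base, as a map of pullbacks. -/

universe u

open CategoryTheory CategoryTheory.Limits AlgebraicGeometry

noncomputable section

namespace Groth.Agent.FibIso43

theorem isIso_map_of_isIso_restrict {S X Y : Scheme.{u}} (g : X ⟶ S) (h : Y ⟶ S) (p : X ⟶ Y)
    (w : p ≫ h = g) (U : S.Opens) [IsIso (p ∣_ (h ⁻¹ᵁ U))]
    (e₁ : g ≫ 𝟙 S = p ≫ h) (e₂ : U.ι ≫ 𝟙 S = 𝟙 _ ≫ U.ι) :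
    IsIso (pullback.map g U.ι h U.ι p (𝟙 _) (𝟙 _) e₁ e₂) := by
  have hpre : g ⁻¹ᵁ U = p ⁻¹ᵁ (h ⁻¹ᵁ U) := by rw [← w]; rfl
  let eX := pullbackRestrictIsoRestrict g U ≪≫ X.isoOfEq hpre
  let eY := pullbackRestrictIsoRestrict h U
  have heq : pullback.map g U.ι h U.ι p (𝟙 _) (𝟙 _) e₁ e₂ = eX.hom ≫ (p ∣_ (h ⁻¹ᵁ U)) ≫ eY.inv := by
    rw [← Category.assoc, Iso.eq_comp_inv, ← cancel_mono (h ⁻¹ᵁ U).ι]
    simp [eX, eY, pullback.map]
    exact pullback.lift_fst _ _ _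
  rw [heq]
  infer_instance

end Groth.Agent.FibIso43

end
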